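import Mathlib

set_option autoImplicit false

namespace Groth.Agent.H78.Idem

open Polynomial

universe u

/-- two idempotents `e, e'` of a commutative ring with `1 - (e - e')²` a unit are equal -/
lemma idem_eq_of_isUnit {S : Type*} [CommRing S] {e e' : S} (he : IsIdempotentElem e)
    (he' : IsIdempotentElem e') (h : IsUnit (1 - (e - e') ^ 2)) : e = e' := by
  have h1 : e * e = e := he
  have h2 : e' * e' = e' := he'
  have h0 : (e - e') * (1 - (e - e') ^ 2) = 0 := by
    linear_combination (-(e + 1) + 3 * e') * h1 + (-3 * e + (e' + 1)) * h2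
  have := h.mul_left_eq_zero.mp h0
  exact sub_eq_zero.mp this

/-- if `x` is `s` times something with `s` in the Jacobson radical then `1 - x²` is a unit -/
lemma isUnit_one_sub_sq {S : Type*} [CommRing S] {s : S} (hs : s ∈ (⊥ : Ideal S).jacobson)
    (g : S) : IsUnit (1 - (s * g) ^ 2) := by
  have := Ideal.mem_jacobson_bot.mp hs (-(s * g * g))
  convert this using 1
  ring

/-- Newton step for the equation `x² = tⁿ x` over a Henselian pair `(A, tA)`: an approximate
solution modulo `t^(3n+1)` is close to an exact solution -/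
theorem newton_idem (A : Type u) [CommRing A] (t : A) [HenselianRing A (Ideal.span {t})] (n : ℕ)
    (a₀ b : A) (h : a₀ ^ 2 - t ^ n * a₀ = t ^ (3 * n + 1) * b) :
    ∃ a c : A, a ^ 2 = t ^ n * a ∧ a - a₀ = t ^ (n + 1) * c := by
  have htj : t ∈ (⊥ : Ideal A).jacobson :=
    HenselianRing.jac (Ideal.subset_span (Set.mem_singleton t))
  -- the unit u = 1 + 4 t^(n+1) b
  have hu : IsUnit (1 + 4 * t ^ (n + 1) * b) := by
    have := Ideal.mem_jacobson_bot.mp htj (4 * t ^ n * b)
    convert this using 1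
    ring
  obtain ⟨u, hu'⟩ := hu
  set δ : A := 2 * a₀ - t ^ n with hδ
  have hδ2 : δ ^ 2 = t ^ (2 * n) * u := by
    rw [hu', hδ]
    linear_combination 4 * h
  set c : A := ↑u⁻¹ * t ^ (n + 1) * b with hc
  have hδc : δ ^ 2 * c = a₀ ^ 2 - t ^ n * a₀ := by
    rw [h, hδ2, hc]
    have : (u : A) * ↑u⁻¹ = 1 := Units.mul_inv u
    linear_combination t ^ (3 * n + 1) * b * this
  -- the monic polynomial Y² + Y + c
  let hp : A[X] := X ^ 2 + X + C c
  have hmonic : hp.Monic := by
    nontriviality A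
    have : hp = X ^ 2 + (X + C c) := by simp [hp, add_assoc]
    rw [this]
    apply Polynomial.monic_X_pow_add
    rw [Polynomial.degree_X_add_C]
    norm_num
  have hcI : c ∈ Ideal.span {t} := by
    rw [Ideal.mem_span_singleton']
    exact ⟨↑u⁻¹ * t ^ n * b, by rw [hc]; ring⟩
  have h0 : hp.eval 0 ∈ Ideal.span {t} := by
    simpa [hp] using hcI
  have hd : IsUnit (Ideal.Quotient.mk (Ideal.span {t}) (hp.derivative.eval 0)) := by
    simp [hp]
  obtain ⟨y, hy, hyI⟩ := HenselianRing.is_henselian hp hmonic 0 h0 hd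
  have hy' : y ^ 2 + y + c = 0 := by
    simpa [hp, Polynomial.IsRoot] using hy
  rw [sub_zero] at hyI
  have hyj : y ∈ (⊥ : Ideal A).jacobson := HenselianRing.jac hyI
  obtain ⟨w, hw⟩ : IsUnit (1 + y) := by
    have := Ideal.mem_jacobson_bot.mp hyj 1
    convert this using 1
    ring
  refine ⟨a₀ + δ * y, δ * (-(↑w⁻¹ * ↑u⁻¹ * b)), ?_, ?_⟩
  · have : (a₀ + δ * y) ^ 2 - t ^ n * (a₀ + δ * y) = 0 := by
      have e1 : (a₀ + δ * y) ^ 2 - t ^ n * (a₀ + δ * y) =
          (a₀ ^ 2 - t ^ n * a₀) + δ * (δ * y) + (δ * y) ^ 2 := by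
        rw [hδ]; ring
      rw [e1, ← hδc]
      linear_combination δ ^ 2 * hy'
    exact sub_eq_zero.mp this
  · have hyw : y = -(↑w⁻¹ * c) := by
      have h1 : (w : A) * y = -c := by
        rw [hw]; linear_combination hy'
      have h2 : (↑w⁻¹ : A) * w = 1 := Units.inv_mul w
      linear_combination (↑w⁻¹ : A) * h1 - y * h2
    rw [add_sub_cancel_left]
    rw [hyw, hc]
    ring

end Groth.Agent.H78.Idem
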