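import Mathlib
import Groth.Agent.H78.Idem.Newton

set_option autoImplicit false

namespace Groth.Agent.H78.Idem

open Polynomial

universe u

section
variable (A : Type u) [CommRing A] (t : A)

/-- an element of the `t`-adic completion killed by evaluation modulo `t^N` is divisible by
`t^N` -/
lemma exists_eq_pow_mul_of_evalₐ_eq_zero (N : ℕ) (x : AdicCompletion (Ideal.span {t}) A)
    (hx : AdicCompletion.evalₐ (Ideal.span {t}) N x = 0) :
    ∃ d : AdicCompletion (Ideal.span {t}) A,
      x = (algebraMap A (AdicCompletion (Ideal.span {t}) A) t) ^ N * d := by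
  have h1 : AdicCompletion.eval (Ideal.span {t}) A N x = 0 := by
    rw [← AdicCompletion.factor_evalₐ_eq_eval (Ideal.span {t}) x (by simp), hx, map_zero]
  have h2 : x ∈ ((Ideal.span {t}) ^ N • ⊤ : Submodule A (AdicCompletion (Ideal.span {t}) A)) := by
    rw [AdicCompletion.pow_smul_top_eq_ker_eval ⟨{t}, by simp⟩]
    exact h1
  rw [Ideal.span_singleton_pow, Submodule.ideal_span_singleton_smul] at h2
  obtain ⟨d, -, hd⟩ := (Submodule.mem_smul_pointwise_iff_exists _ _ _).mp h2
  refine ⟨d, ?_⟩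
  rw [← hd, Algebra.smul_def, map_pow]

/-- an element of `A` dying in the completion is divisible by every power of `t` -/
lemma exists_eq_pow_mul_of_algebraMap_eq_zero (N : ℕ) (y : A)
    (hy : algebraMap A (AdicCompletion (Ideal.span {t}) A) y = 0) : ∃ c : A, y = t ^ N * c := by
  have h1 : Ideal.Quotient.mk ((Ideal.span {t}) ^ N) y = 0 := by
    have := (AdicCompletion.evalₐ (Ideal.span {t}) N).commutes y
    rw [hy, map_zero] at this
    exact this.symm
  rw [Ideal.Quotient.eq_zero_iff_mem, Ideal.span_singleton_pow, Ideal.mem_span_singleton'] at h1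
  obtain ⟨c, hc⟩ := h1
  exact ⟨c, by rw [← hc, mul_comm]⟩

end

/-- idempotents of `Â[1/t]` come from unique idempotents of `A[1/t]` for a Henselian pair
`(A, tA)` -/
theorem existsUnique_idem_away (A : Type u) [CommRing A] (t : A)
    [HenselianRing A (Ideal.span {t})]
    (e : Localization.Away (algebraMap A (AdicCompletion (Ideal.span {t}) A) t))
    (he : IsIdempotentElem e) :
    ∃! e₀ : Localization.Away t, IsIdempotentElem e₀ ∧
      Localization.awayMap (algebraMap A (AdicCompletion (Ideal.span {t}) A)) t e₀ = e := by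
  revert e he
  set I : Ideal A := Ideal.span {t} with hI
  set ι := algebraMap A (AdicCompletion I A) with hι
  set j := algebraMap A (Localization.Away t) with hj
  set j' := algebraMap (AdicCompletion I A) (Localization.Away (ι t)) with hj'
  set φ := Localization.awayMap ι t with hφdef
  have hφ : ∀ a, φ (j a) = j' (ι a) := fun a => IsLocalization.map_eq _ a
  have hjt : IsUnit (j t) := IsLocalization.Away.algebraMap_isUnit t
  have hj't : IsUnit (j' (ι t)) := IsLocalization.Away.algebraMap_isUnit (ι t)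
  have htj : t ∈ (⊥ : Ideal A).jacobson :=
    HenselianRing.jac (Ideal.subset_span (Set.mem_singleton t))
  have htj' : ι t ∈ (⊥ : Ideal (AdicCompletion I A)).jacobson := by
    have : IsAdicComplete (I.map ι) (AdicCompletion I A) :=
      (IsAdicComplete.map_algebraMap_iff _ _).mpr (AdicCompletion.isAdicComplete ⟨{t}, by simp [hI]⟩)
    exact IsAdicComplete.le_jacobson_bot (I.map ι)
      (Ideal.mem_map_of_mem ι (Ideal.subset_span (Set.mem_singleton t)))
  -- uniqueness first, as a general statement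
  have huniq : ∀ e₁ e₂ : Localization.Away t, IsIdempotentElem e₁ → IsIdempotentElem e₂ →
      φ e₁ = φ e₂ → e₁ = e₂ := by
    intro e₁ e₂ h₁ h₂ h12
    apply idem_eq_of_isUnit h₁ h₂
    obtain ⟨⟨b, s⟩, hs⟩ := IsLocalization.surj (Submonoid.powers t) (e₁ - e₂)
    obtain ⟨m, hm⟩ := s.2
    simp only at hs
    have h0 : φ (e₁ - e₂) = 0 := by rw [map_sub, h12, sub_self]
    have h1 : j' (ι b) = 0 := by
      rw [← hφ, ← hs, map_mul, h0, zero_mul]
    obtain ⟨⟨_, k, rfl⟩, hk⟩ := (IsLocalization.map_eq_zero_iff (Submonoid.powers (ι t)) _ _).mp h1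
    simp only at hk
    have h2 : ι (t ^ k * b) = 0 := by rw [map_mul, map_pow]; exact hk
    obtain ⟨c, hc⟩ := exists_eq_pow_mul_of_algebraMap_eq_zero A t (k + m + 1) _ h2
    have h3 : e₁ - e₂ = j t * j c := by
      have hu : IsUnit (j t ^ (k + m)) := hjt.pow _
      apply hu.mul_left_injective
      show (e₁ - e₂) * j t ^ (k + m) = j t * j c * j t ^ (k + m)
      have : (e₁ - e₂) * j t ^ (k + m) = j (t ^ k * b) := by
        rw [pow_add, map_mul, map_pow, ← hs, ← hm, map_pow]; ring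
      rw [this, hc, map_mul, map_pow]; ring
    rw [h3, ← map_mul]
    have := isUnit_one_sub_sq htj c
    have h4 : j (1 - (t * c) ^ 2) = 1 - (j (t * c)) ^ 2 := by simp
    rw [← h4]
    exact this.map j
  -- existence
  intro e he
  obtain ⟨⟨a', s⟩, hs⟩ := IsLocalization.surj (Submonoid.powers (ι t)) e
  obtain ⟨n₀, hn₀⟩ := s.2
  simp only at hs
  have hs' : e * j' (ι t) ^ n₀ = j' a' := by rw [← hs, ← hn₀, map_pow]
  have h1 : j' (a' ^ 2) = j' ((ι t) ^ n₀ * a') := by
    have he' : e * e = e := he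
    rw [map_pow, map_mul, map_pow, ← hs']
    linear_combination (j' (ι t) ^ n₀) ^ 2 * he'
  obtain ⟨⟨_, k, rfl⟩, hk⟩ := (IsLocalization.eq_iff_exists (Submonoid.powers (ι t)) _).mp h1
  simp only at hk
  -- normalised numerator
  set n : ℕ := n₀ + k with hn
  set â := (ι t) ^ k * a' with hâ
  have H1 : â ^ 2 = (ι t) ^ n * â := by
    rw [hâ, hn]
    linear_combination (ι t) ^ k * hk
  have H2 : e * j' (ι t) ^ n = j' â := by
    rw [hâ, hn, pow_add, ← mul_assoc, hs', map_mul, map_pow]; ring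
  obtain ⟨a₀, ha₀⟩ := Ideal.Quotient.mk_surjective
    (AdicCompletion.evalₐ I (3 * n + 1) â)
  have h2 : AdicCompletion.evalₐ I (3 * n + 1) (ι a₀ - â) = 0 := by
    rw [map_sub, ← ha₀, sub_eq_zero]
    exact (AdicCompletion.evalₐ I (3 * n + 1)).commutes a₀
  have h3 : a₀ ^ 2 - t ^ n * a₀ ∈ I ^ (3 * n + 1) := by
    rw [← Ideal.Quotient.eq_zero_iff_mem, map_sub, map_mul, map_pow, map_pow, ha₀]
    have ht : Ideal.Quotient.mk (I ^ (3 * n + 1)) t = AdicCompletion.evalₐ I (3 * n + 1) (ι t) :=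
      ((AdicCompletion.evalₐ I (3 * n + 1)).commutes t).symm
    rw [ht, ← map_pow, ← map_pow, ← map_mul, ← map_sub, H1, sub_self, map_zero]
  rw [hI, Ideal.span_singleton_pow, Ideal.mem_span_singleton'] at h3
  obtain ⟨b, hb⟩ := h3
  obtain ⟨a, c, hac, hc⟩ := newton_idem A t n a₀ b (by rw [← hb, mul_comm])
  obtain ⟨d, hd⟩ := exists_eq_pow_mul_of_evalₐ_eq_zero A t (3 * n + 1) _ h2
  obtain ⟨u, hu⟩ := hjt
  have h5 : j a * j a = j t ^ n * j a := by
    rw [← map_mul, ← map_pow, ← map_mul, ← hac, sq]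
  have h6 : j t ^ n * (↑(u⁻¹ ^ n) : Localization.Away t) = 1 := by
    rw [← hu, ← Units.val_pow_eq_pow_val, ← Units.val_mul, ← mul_pow, mul_inv_cancel, one_pow,
      Units.val_one]
  have hex1 : IsIdempotentElem (j a * ↑(u⁻¹ ^ n)) := by
    show j a * ↑(u⁻¹ ^ n) * (j a * ↑(u⁻¹ ^ n)) = j a * ↑(u⁻¹ ^ n)
    linear_combination (↑(u⁻¹ ^ n) : Localization.Away t) ^ 2 * h5 +
      j a * (↑(u⁻¹ ^ n) : Localization.Away t) * h6
  have hex2 : φ (j a * ↑(u⁻¹ ^ n)) = e := by
    have hidem : IsIdempotentElem (φ (j a * ↑(u⁻¹ ^ n))) := by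
      show φ _ * φ _ = φ _
      rw [← map_mul]
      exact congrArg φ hex1
    apply idem_eq_of_isUnit hidem he
    -- the difference is `j' (ι t * g)`
    set g := ι c + (ι t) ^ (2 * n) * d with hg
    have h7 : φ (j a * ↑(u⁻¹ ^ n)) - e = j' (ι t * g) := by
      have hu' : IsUnit (j' (ι t) ^ n) := hj't.pow _
      apply hu'.mul_left_injective
      show (φ (j a * ↑(u⁻¹ ^ n)) - e) * j' (ι t) ^ n = j' (ι t * g) * j' (ι t) ^ n
      have h8 : φ (j a * ↑(u⁻¹ ^ n)) * j' (ι t) ^ n = j' (ι a) := by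
        rw [← hφ, ← hφ, ← map_pow, ← map_mul]
        congr 1
        linear_combination j a * h6
      have h9 : ι a - â = (ι t) ^ (n + 1) * g := by
        have : ι a - â = ι (a - a₀) + (ι a₀ - â) := by rw [map_sub]; ring
        rw [this, hc, hd, hg, map_mul, map_pow]; ring
      rw [sub_mul, h8, H2, ← map_sub, h9, map_mul, map_mul, map_pow]; ring
    rw [h7]
    have := isUnit_one_sub_sq htj' g
    have h4 : j' (1 - (ι t * g) ^ 2) = 1 - (j' (ι t * g)) ^ 2 := by simp
    rw [← h4]
    exact this.map j'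
  refine ⟨j a * ↑(u⁻¹ ^ n), ⟨?_, ?_⟩, ?_⟩
  · exact hex1
  · exact hex2
  · rintro e' ⟨h'1, h'2⟩
    exact huniq _ _ h'1 hex1 (h'2.trans hex2.symm)

end Groth.Agent.H78.Idem
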