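import Mathlib

/-!
# Solutions of `β² = Xⁿ β` in a power series ring

For any commutative ring `R`, a power series `β` with `β² = Xⁿ β` is `Xⁿ` times an idempotent
constant (i.e. the idempotents of `R((X))` are those of `R`).
-/

set_option autoImplicit false

namespace Groth.Agent.H78.Idem.PS

open PowerSeries

universe u

variable {R : Type*} [CommRing R]

/-- the coefficients of `β` below `n` are nilpotent when `β² = Xⁿ β` -/
lemma coeff_mem_nilradical_of_sq_eq {n : ℕ} {β : R⟦X⟧} (h : β ^ 2 = X ^ n * β) :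
    ∀ m < n, coeff m β ∈ nilradical R := by
  intro m
  induction m using Nat.strong_induction_on with
  | _ m ih =>
    intro hm
    have h1 : coeff (2 * m) (β * β) = coeff (2 * m) (X ^ n * β) := by rw [← sq, h]
    rw [coeff_mul, coeff_X_pow_mul'] at h1
    have hmem : (m, m) ∈ Finset.HasAntidiagonal.antidiagonal (2 * m) := by
      rw [Finset.HasAntidiagonal.mem_antidiagonal]; ring
    rw [← Finset.add_sum_erase _ _ hmem] at h1
    have hrest : ∑ x ∈ (Finset.HasAntidiagonal.antidiagonal (2 * m)).erase (m, m),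
        coeff x.1 β * coeff x.2 β ∈ nilradical R := by
      apply Ideal.sum_mem
      rintro ⟨i, j⟩ hij
      rw [Finset.mem_erase, Finset.HasAntidiagonal.mem_antidiagonal] at hij
      obtain ⟨hne, hsum⟩ := hij
      simp only at hsum
      have : i < m ∨ j < m := by
        by_contra hcon
        push Not at hcon
        apply hne
        have hi : i = m := by omega
        have hj : j = m := by omega
        rw [hi, hj]
      rcases this with hi | hj
      · exact Ideal.mul_mem_right _ _ (ih i hi (hi.trans hm))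
      · exact Ideal.mul_mem_left _ _ (ih j hj (hj.trans hm))
    have hrhs : (if n ≤ 2 * m then coeff (2 * m - n) β else 0) ∈ nilradical R := by
      split_ifs with hle
      · exact ih _ (by omega) (by omega)
      · exact Ideal.zero_mem _
    have hsq : coeff m β * coeff m β ∈ nilradical R := by
      have : coeff m β * coeff m β = (if n ≤ 2 * m then coeff (2 * m - n) β else 0) -
          ∑ x ∈ (Finset.HasAntidiagonal.antidiagonal (2 * m)).erase (m, m), coeff x.1 β * coeff x.2 β := by
        rw [← h1]; ring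
      rw [this]
      exact Ideal.sub_mem _ hrhs hrest
    rw [mem_nilradical] at hsq ⊢
    obtain ⟨k, hk⟩ := hsq
    exact ⟨2 * k, by rw [pow_mul, sq, hk]⟩

/-- `X ^ k * y` nilpotent implies `y` nilpotent -/
lemma isNilpotent_of_X_pow_mul {k : ℕ} {y : R⟦X⟧} (h : IsNilpotent (X ^ k * y)) :
    IsNilpotent y := by
  obtain ⟨N, hN⟩ := h
  refine ⟨N, ?_⟩
  rw [mul_pow, ← pow_mul] at hN
  apply X_pow_mul_cancel (k := k * N)
  rw [hN, mul_zero]

/-- an idempotent power series is constant -/
lemma eq_C_of_isIdempotentElem {γ : R⟦X⟧} (h : IsIdempotentElem γ) :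
    γ = C (constantCoeff γ) := by
  have h2 : IsIdempotentElem (C (R := R) (constantCoeff γ)) := by
    show C _ * C _ = C _
    rw [← map_mul, ← map_mul]
    exact congrArg _ (congrArg _ h)
  apply idem_eq_of_isUnit' h h2
  rw [isUnit_iff_constantCoeff]
  simp
where
  idem_eq_of_isUnit' {S : Type _} [CommRing S] {e e' : S} (he : IsIdempotentElem e)
      (he' : IsIdempotentElem e') (h : IsUnit (1 - (e - e') ^ 2)) : e = e' := by
    have h1 : e * e = e := he
    have h2 : e' * e' = e' := he'
    have h0 : (e - e') * (1 - (e - e') ^ 2) = 0 := by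
      linear_combination (-(e + 1) + 3 * e') * h1 + (-3 * e + (e' + 1)) * h2
    have := h.mul_left_eq_zero.mp h0
    exact sub_eq_zero.mp this

/-- a nilpotent solution of `δ³ = X^(2n) δ` vanishes -/
lemma eq_zero_of_cube_eq {n : ℕ} {δ : R⟦X⟧} (hnil : IsNilpotent δ)
    (h : δ ^ 3 = X ^ (2 * n) * δ) : δ = 0 := by
  have key : ∀ k : ℕ, δ ^ (2 * k + 1) = X ^ (2 * n * k) * δ := by
    intro k
    induction k with
    | zero => simp
    | succ k ih =>
      have : δ ^ (2 * (k + 1) + 1) = δ ^ (2 * k + 1) * δ ^ 2 := by ring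
      rw [this, ih]
      have : X ^ (2 * n * k) * δ * δ ^ 2 = X ^ (2 * n * k) * δ ^ 3 := by ring
      rw [this, h]
      ring
  obtain ⟨N, hN⟩ := hnil
  have h1 : δ ^ (2 * N + 1) = 0 := by
    have : δ ^ (2 * N + 1) = δ ^ N * δ ^ (N + 1) := by ring
    rw [this, hN, zero_mul]
  rw [key] at h1
  apply X_pow_mul_cancel (k := 2 * n * N)
  rw [h1, mul_zero]

/-- **Idempotents of `R((X))` are constants**: a power series with `β² = Xⁿ β` is `Xⁿ` times an
idempotent constant. -/
theorem exists_idem_of_sq_eq {n : ℕ} {β : R⟦X⟧} (h : β ^ 2 = X ^ n * β) :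
    ∃ r : R, IsIdempotentElem r ∧ β = X ^ n * C r := by
  -- split off the low part
  set γ : R⟦X⟧ := mk fun i => coeff (i + n) β with hγ
  set ν : R⟦X⟧ := ((trunc n β : Polynomial R) : R⟦X⟧) with hν
  have hsplit : β = X ^ n * γ + ν := eq_X_pow_mul_shift_add_trunc n β
  have hνnil : ν ∈ nilradical R⟦X⟧ := by
    rw [mem_nilradical, hν]
    have : IsNilpotent (trunc n β) := by
      rw [Polynomial.isNilpotent_iff]
      intro i
      rw [coeff_trunc]
      split_ifs with hi
      · exact mem_nilradical.mp (coeff_mem_nilradical_of_sq_eq h i hi)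
      · exact IsNilpotent.zero
    exact this.map (Polynomial.coeToPowerSeries.ringHom (R := R))
  -- γ is idempotent modulo nilpotents
  have hγnil : IsNilpotent (γ * γ - γ) := by
    apply isNilpotent_of_X_pow_mul (k := 2 * n)
    have : X ^ (2 * n) * (γ * γ - γ) = ν * (X ^ n - 2 * γ * X ^ n - ν) := by
      have h' : (X ^ n * γ + ν) ^ 2 = X ^ n * (X ^ n * γ + ν) := by rw [← hsplit]; exact h
      linear_combination h'
    rw [this, ← mem_nilradical]
    exact Ideal.mul_mem_right _ _ hνnil
  -- lift to an honest idempotent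
  let f := Ideal.Quotient.mk (nilradical R⟦X⟧)
  have hker : ∀ x ∈ RingHom.ker f, IsNilpotent x := by
    intro x hx
    rw [RingHom.mem_ker, Ideal.Quotient.eq_zero_iff_mem] at hx
    exact mem_nilradical.mp hx
  have hfγ : IsIdempotentElem (f γ) := by
    show f γ * f γ = f γ
    rw [← map_mul, ← sub_eq_zero, ← map_sub, Ideal.Quotient.eq_zero_iff_mem, mem_nilradical]
    exact hγnil
  obtain ⟨e', he', hfe'⟩ := exists_isIdempotentElem_eq_of_ker_isNilpotent f hker (f γ)
    ⟨γ, rfl⟩ hfγ
  have hμ : γ - e' ∈ nilradical R⟦X⟧ := by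
    rw [← Ideal.Quotient.eq_zero_iff_mem, map_sub, sub_eq_zero]
    exact hfe'.symm
  set r : R := constantCoeff e' with hr
  have he'C : e' = C r := eq_C_of_isIdempotentElem he'
  have hridem : IsIdempotentElem r := by
    show r * r = r
    rw [hr, ← map_mul]
    exact congrArg _ he'
  refine ⟨r, hridem, ?_⟩
  have hρ : (X ^ n * C r) ^ 2 = X ^ n * (X ^ n * C r) := by
    have : C r * C r = C r := by rw [← map_mul]; exact congrArg _ hridem
    linear_combination (X : R⟦X⟧) ^ n * X ^ n * this
  have hδnil : IsNilpotent (β - X ^ n * C r) := by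
    rw [← mem_nilradical]
    have : β - X ^ n * C r = X ^ n * (γ - e') + ν := by
      rw [he'C]
      linear_combination hsplit
    rw [this]
    exact Ideal.add_mem _ (Ideal.mul_mem_left _ _ hμ) hνnil
  have hδ3 : (β - X ^ n * C r) ^ 3 = X ^ (2 * n) * (β - X ^ n * C r) := by
    linear_combination (β + X ^ n - 3 * (X ^ n * C r)) * h +
      (3 * β - X ^ n * C r - X ^ n) * hρ
  exact sub_eq_zero.mp (eq_zero_of_cube_eq hδnil hδ3)

end Groth.Agent.H78.Idem.PS
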